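import Groth.Agent.DiagAction.GroupLike
import Mathlib

/-!
Homomorphisms of diagonalisable groups are locally constant; mono / flat surjective in terms of characters.
-/

universe u

open CategoryTheory AlgebraicGeometry Groth.Agent.DiagAction

set_option backward.isDefEq.respectTransparency false
set_option linter.style.haveILetI false

noncomputable section

namespace Groth.Agent.ConstLocus

variable {M N : Type} [CommGroup M] [CommGroup N]

/-- Over a ring where some coefficient is a unit, a group-like element is a character. -/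
theorem isGL_eq_single {A : Type u} [CommRing A] {y : MonoidAlgebra A M} (hy : IsGL y) {m : M}
    (hm : IsUnit (y.coeff m)) : y = MonoidAlgebra.single m 1 := by
  classical
  obtain ⟨h1, -⟩ := (isGL_iff subset_rfl).mp hy
  have hmm := h1 m m
  rw [if_pos rfl] at hmm
  have hone : y.coeff m = 1 := hm.mul_left_cancel (hmm.trans (mul_one _).symm)
  refine MonoidAlgebra.ext (Finsupp.ext fun a => ?_)
  rw [MonoidAlgebra.coeff_single, Finsupp.single_apply]
  split_ifs with h
  · rw [← h, hone]
  · have := h1 m a
    rwa [if_neg h, hone, one_mul] at this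

theorem exists_away_eq {A : Type u} [CommRing A] [Group.FG N] (ψ : MonoidAlgebra A N →ₐ[A] MonoidAlgebra A M)
    (hψ : ∀ n, IsGL (ψ (MonoidAlgebra.single n 1))) (p : PrimeSpectrum A) :
    ∃ (a : A) (φ : N →* M), a ∉ p.asIdeal ∧
      ∀ (B : Type u) [CommRing B] (g : A →+* B), IsUnit (g a) →
        ∀ n, MonoidAlgebra.mapRingHom M g (ψ (MonoidAlgebra.single n 1)) = MonoidAlgebra.single (φ n) 1 := by
  classical
  let y : N → MonoidAlgebra A M := fun n => ψ (MonoidAlgebra.single n 1)
  have hidx : ∀ n, ∃ m, (y n).coeff m ∉ p.asIdeal := fun n => by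
    by_contra hne
    push Not at hne
    have h2 := ((isGL_iff (y := y n) subset_rfl).mp (hψ n)).2
    exact p.isPrime.ne_top ((Ideal.eq_top_iff_one _).mpr (h2 ▸ Ideal.sum_mem _ fun m _ => hne m))
  choose m hm using hidx
  have huniq : ∀ n a, (y n).coeff a ∉ p.asIdeal → a = m n := fun n a ha => by
    by_contra h
    have h1 := ((isGL_iff (y := y n) subset_rfl).mp (hψ n)).1 a (m n)
    rw [if_neg h] at h1
    rcases p.isPrime.mem_or_mem (h1 ▸ p.asIdeal.zero_mem) with h' | h'
    exacts [ha h', hm n h']
  let k := algebraMap A p.asIdeal.ResidueField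
  let L := MonoidAlgebra.mapRingHom M k
  have hk : ∀ n, L (y n) = MonoidAlgebra.single (m n) (k ((y n).coeff (m n))) := fun n => by
    refine MonoidAlgebra.ext (Finsupp.ext fun a => ?_)
    rw [MonoidAlgebra.coeff_single, Finsupp.single_apply]
    simp only [L, MonoidAlgebra.coeff_mapRingHom]
    split_ifs with h
    · rw [h]
    · show k _ = 0
      rw [Ideal.algebraMap_residueField_eq_zero]
      by_contra ha
      exact h (huniq n a ha).symm
  have hne : ∀ n, k ((y n).coeff (m n)) ≠ 0 := fun n => by
    show k _ ≠ 0
    rw [Ne, Ideal.algebraMap_residueField_eq_zero]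
    exact hm n
  have hinj : ∀ {a b : M} {r s : p.asIdeal.ResidueField}, r ≠ 0 →
      MonoidAlgebra.single a r = MonoidAlgebra.single b s → a = b := fun {a b r s} hr h => by
    by_contra hab
    have := congrArg (fun z => z.coeff a) h
    simp [MonoidAlgebra.coeff_single, Finsupp.single_apply, Ne.symm hab] at this
    exact hr this
  let φ : N →* M :=
    { toFun := m
      map_one' := by
        refine (huniq 1 1 ?_).symm
        show (y 1).coeff 1 ∉ p.asIdeal
        simp only [y, ← MonoidAlgebra.one_def, map_one ψ]
        simp only [MonoidAlgebra.one_def, MonoidAlgebra.coeff_single, Finsupp.single_eq_same]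
        exact fun h => p.isPrime.ne_top ((Ideal.eq_top_iff_one _).mpr h)
      map_mul' := fun a b => by
        have h : L (y (a * b)) = L (y a) * L (y b) := by
          rw [← map_mul L]
          congr 1
          simp only [y, ← map_mul ψ, MonoidAlgebra.single_mul_single, mul_one]
        rw [hk, hk, hk, MonoidAlgebra.single_mul_single] at h
        exact hinj (hne _) h }
  obtain ⟨T, hT⟩ := Group.FG.out (G := N)
  refine ⟨∏ n ∈ T, (y n).coeff (m n), φ, fun h => ?_, fun B _ g hg n => ?_⟩
  · obtain ⟨n, -, hn⟩ := p.isPrime.prod_mem_iff.mp h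
    exact hm n hn
  · rw [map_prod] at hg
    let W : Subgroup N :=
      { carrier := {n | MonoidAlgebra.mapRingHom M g (y n) = MonoidAlgebra.single (m n) 1}
        one_mem' := by
          show MonoidAlgebra.mapRingHom M g (y 1) = MonoidAlgebra.single (φ 1) 1
          simp only [y, ← MonoidAlgebra.one_def, map_one]
        mul_mem' := fun {a b} ha hb => by
          show MonoidAlgebra.mapRingHom M g (y (a * b)) = MonoidAlgebra.single (φ (a * b)) 1
          have h : y (a * b) = y a * y b := by
            simp only [y, ← map_mul ψ, MonoidAlgebra.single_mul_single, mul_one]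
          rw [h, map_mul, ha, hb, map_mul φ, MonoidAlgebra.single_mul_single, mul_one]
          rfl
        inv_mem' := fun {a} ha => by
          show MonoidAlgebra.mapRingHom M g (y a⁻¹) = MonoidAlgebra.single (φ a⁻¹) 1
          have h : MonoidAlgebra.mapRingHom M g (y a⁻¹) * MonoidAlgebra.mapRingHom M g (y a) = 1 := by
            rw [← map_mul]
            simp only [y, ← map_mul ψ, MonoidAlgebra.single_mul_single, inv_mul_cancel, mul_one, ← MonoidAlgebra.one_def,
              map_one]
          have h' : MonoidAlgebra.mapRingHom M g (y a) * MonoidAlgebra.single (φ a⁻¹) 1 = 1 := by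
            rw [ha, show m a = φ a from rfl, MonoidAlgebra.single_mul_single, ← map_mul φ, mul_inv_cancel, map_one,
              mul_one, MonoidAlgebra.one_def]
          exact left_inv_eq_right_inv h h' }
    have hTW : Subgroup.closure (T : Set N) ≤ W := (Subgroup.closure_le W).mpr fun n hn => by
      have hgl : IsGL (MonoidAlgebra.mapRingHom M g (y n)) := by
        obtain ⟨h1, h2⟩ := (isGL_iff (y := y n) subset_rfl).mp (hψ n)
        refine (isGL_iff (s := (y n).coeff.support) ?_).mpr ⟨fun a b => ?_, ?_⟩
        · intro a ha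
          rw [Finsupp.mem_support_iff] at ha ⊢
          simp only [MonoidAlgebra.coeff_mapRingHom] at ha
          exact fun h0 => ha (by simp [h0])
        · simp only [MonoidAlgebra.coeff_mapRingHom]
          show g _ * g _ = _
          rw [← map_mul, h1]
          split_ifs <;> simp
        · simp only [MonoidAlgebra.coeff_mapRingHom]
          exact (map_sum g _ _).symm.trans (by rw [h2, map_one])
      refine isGL_eq_single hgl ?_
      simp only [MonoidAlgebra.coeff_mapRingHom]
      exact isUnit_of_dvd_unit (Finset.dvd_prod_of_mem (fun n => g ((y n).coeff (m n))) hn) hg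
    exact hTW (by rw [hT]; trivial)

theorem surjective_mapDomain {A : Type u} [CommRing A] (φ : N →* M) (h : Function.Surjective φ) :
    Function.Surjective (MonoidAlgebra.mapDomainAlgHom A A φ) := fun z => by
  induction z using MonoidAlgebra.induction_linear with
  | zero => exact ⟨0, map_zero _⟩
  | add a b ha hb =>
    obtain ⟨a', rfl⟩ := ha
    obtain ⟨b', rfl⟩ := hb
    exact ⟨a' + b', map_add _ _ _⟩
  | single m r =>
    obtain ⟨n, rfl⟩ := h m
    exact ⟨MonoidAlgebra.single n r, by simp [MonoidAlgebra.mapDomainAlgHom]⟩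

theorem mono_of_surjective {A : Type u} [CommRing A] (φ : N →* M) (h : Function.Surjective φ) :
    Mono (Spec.map (CommRingCat.ofHom (MonoidAlgebra.mapDomainAlgHom A A φ).toRingHom)) := by
  haveI := IsClosedImmersion.spec_of_surjective (CommRingCat.ofHom (MonoidAlgebra.mapDomainAlgHom A A φ).toRingHom)
    (surjective_mapDomain φ h)
  infer_instance

theorem surjective_of_mono {A : Type u} [CommRing A] [Nontrivial A] (φ : N →* M)
    (h : Mono (Spec.map (CommRingCat.ofHom (MonoidAlgebra.mapDomainAlgHom A A φ).toRingHom))) :
    Function.Surjective φ := by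
  let π : M →* M ⧸ φ.range := QuotientGroup.mk' φ.range
  let a : MonoidAlgebra A M →+* MonoidAlgebra A (M ⧸ φ.range) := (MonoidAlgebra.mapDomainAlgHom A A π).toRingHom
  let b : MonoidAlgebra A M →+* MonoidAlgebra A (M ⧸ φ.range) :=
    (MonoidAlgebra.mapDomainAlgHom A A (1 : M →* M ⧸ φ.range)).toRingHom
  have e : a.comp (MonoidAlgebra.mapDomainAlgHom A A φ).toRingHom =
      b.comp (MonoidAlgebra.mapDomainAlgHom A A φ).toRingHom := by
    refine MonoidAlgebra.ringHom_ext (fun r => ?_) (fun n => ?_)
    · simp [a, b, MonoidAlgebra.mapDomainAlgHom]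
    · have : π (φ n) = 1 := (QuotientGroup.eq_one_iff _).mpr ⟨n, rfl⟩
      simp [a, b, MonoidAlgebra.mapDomainAlgHom, this]
  have hab : a = b := by
    have := (cancel_mono (Spec.map (CommRingCat.ofHom (MonoidAlgebra.mapDomainAlgHom A A φ).toRingHom))
      (g := Spec.map (CommRingCat.ofHom a)) (h := Spec.map (CommRingCat.ofHom b))).mp (by
        rw [← Spec.map_comp, ← Spec.map_comp, ← CommRingCat.ofHom_comp, ← CommRingCat.ofHom_comp, e])
    exact congrArg (fun f => f.hom) (Spec.map_injective this)
  intro m
  have h1 := DFunLike.congr_fun hab (MonoidAlgebra.single m 1)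
  have h2 : π m = 1 := by
    by_contra hne
    have := congrArg (fun z => z.coeff (π m)) h1
    simp [a, b, MonoidAlgebra.mapDomainAlgHom, MonoidAlgebra.coeff_single, Finsupp.single_apply,
      Ne.symm hne] at this
  exact (QuotientGroup.eq_one_iff _).mp h2

theorem mapDomain_injective {A : Type u} [CommRing A] (φ : N →* M) (h : Function.Injective φ) :
    Function.Injective (MonoidAlgebra.mapDomainAlgHom A A φ) := fun x y e => by
  refine MonoidAlgebra.ext (Finsupp.ext fun n => ?_)
  have := congrArg (fun z => z.coeff (φ n)) e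
  simpa [MonoidAlgebra.mapDomainAlgHom, Finsupp.mapDomain_apply h] using this

theorem faithfullyFlat_of_injective {A : Type u} [CommRing A] (φ : N →* M) (h : Function.Injective φ) :
    (MonoidAlgebra.mapDomainAlgHom A A φ).toRingHom.FaithfullyFlat := by
  classical
  letI : Algebra (MonoidAlgebra A N) (MonoidAlgebra A M) := (MonoidAlgebra.mapDomainAlgHom A A φ).toRingHom.toAlgebra
  let s : M ⧸ φ.range → M := Quotient.out
  let e : (M ⧸ φ.range) × N ≃ M := Equiv.ofBijective (fun x => φ x.2 * s x.1) ⟨by
    rintro ⟨q, n⟩ ⟨q', n'⟩ hqn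
    have hq : q = q' := by
      have := congrArg (QuotientGroup.mk' φ.range) hqn
      simp only [map_mul, (QuotientGroup.eq_one_iff _).mpr (MonoidHom.mem_range.mpr ⟨_, rfl⟩),
        QuotientGroup.mk'_apply, one_mul, s, QuotientGroup.out_eq'] at this
      exact this
    subst hq
    exact Prod.ext rfl (h (mul_right_cancel hqn)), fun m => by
    obtain ⟨n, hn⟩ : m * (s (QuotientGroup.mk m))⁻¹ ∈ φ.range := by
      rw [← QuotientGroup.eq_one_iff, QuotientGroup.mk_mul, QuotientGroup.mk_inv]
      simp [s]
    exact ⟨(QuotientGroup.mk m, n), by simp [hn]⟩⟩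
  let L : ((M ⧸ φ.range) →₀ (MonoidAlgebra A N)) →ₗ[(MonoidAlgebra A N)] (MonoidAlgebra A M) :=
    Finsupp.linearCombination (MonoidAlgebra A N) fun q => (MonoidAlgebra.single (s q) (1 : A) : (MonoidAlgebra A M))
  have hL : ∀ q n (r : A), L (Finsupp.single q (MonoidAlgebra.single n r)) = MonoidAlgebra.single (e (q, n)) r := by
    intro q n r
    simp only [L, Finsupp.linearCombination_single, Algebra.smul_def]
    show (MonoidAlgebra.mapDomainAlgHom A A φ).toRingHom (MonoidAlgebra.single n r) * _ = _
    simp [MonoidAlgebra.mapDomainAlgHom, e, MonoidAlgebra.single_mul_single]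
  have hLc : ∀ (z : (M ⧸ φ.range) →₀ (MonoidAlgebra A N)) q n, (L z).coeff (e (q, n)) = (z q).coeff n := by
    intro z q n
    induction z using Finsupp.induction_linear with
    | zero => simp
    | add a b ha hb => simp only [map_add, MonoidAlgebra.coeff_add, Finsupp.add_apply, ha, hb]
    | single q' w =>
      induction w using MonoidAlgebra.induction_linear with
      | zero => simp
      | add a b ha hb =>
        simp only [Finsupp.single_add, map_add, MonoidAlgebra.coeff_add, Finsupp.add_apply, ha, hb]
      | single n' r =>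
        rw [hL, MonoidAlgebra.coeff_single, Finsupp.single_apply, Finsupp.single_apply]
        by_cases hq : q' = q
        · subst hq
          simp [MonoidAlgebra.coeff_single, Finsupp.single_apply, e.injective.eq_iff]
        · simp [hq, e.injective.eq_iff, MonoidAlgebra.coeff_single]
  have hbij : Function.Bijective L := by
    refine ⟨fun a b hab => Finsupp.ext fun q => MonoidAlgebra.ext (Finsupp.ext fun n => ?_), fun z => ?_⟩
    · rw [← hLc, ← hLc, hab]
    · induction z using MonoidAlgebra.induction_linear with
      | zero => exact ⟨0, map_zero _⟩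
      | add a b ha hb =>
        obtain ⟨a', rfl⟩ := ha
        obtain ⟨b', rfl⟩ := hb
        exact ⟨a' + b', map_add _ _ _⟩
      | single m r =>
        obtain ⟨⟨q, n⟩, rfl⟩ := e.surjective m
        exact ⟨_, hL q n r⟩
  haveI : Module.Free (MonoidAlgebra A N) (MonoidAlgebra A M) := Module.Free.of_equiv (LinearEquiv.ofBijective L hbij)
  show Module.FaithfullyFlat (MonoidAlgebra A N) (MonoidAlgebra A M)
  rcases subsingleton_or_nontrivial A with hA | hA
  · haveI : Subsingleton (MonoidAlgebra A N) := MonoidAlgebra.coeff_injective.subsingleton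
    exact { submodule_ne_top := fun {m} hm => (hm.ne_top (Subsingleton.elim _ _)).elim }
  · haveI : Nontrivial (MonoidAlgebra A M) := inferInstance
    infer_instance

theorem flat_surjective_of_injective {A : Type u} [CommRing A] (φ : N →* M) (h : Function.Injective φ) :
    Flat (Spec.map (CommRingCat.ofHom (MonoidAlgebra.mapDomainAlgHom A A φ).toRingHom)) ∧
      Surjective (Spec.map (CommRingCat.ofHom (MonoidAlgebra.mapDomainAlgHom A A φ).toRingHom)) := by
  obtain ⟨h1, h2⟩ := RingHom.FaithfullyFlat.iff_flat_and_comap_surjective.mp (faithfullyFlat_of_injective (A := A) φ h)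
  exact ⟨by rw [HasRingHomProperty.Spec_iff (P := @Flat)]; exact h1, ⟨h2⟩⟩

theorem injective_of_flat_surjective {A : Type u} [CommRing A] [Nontrivial A] (φ : N →* M)
    (h1 : Flat (Spec.map (CommRingCat.ofHom (MonoidAlgebra.mapDomainAlgHom A A φ).toRingHom)))
    (h2 : Surjective (Spec.map (CommRingCat.ofHom (MonoidAlgebra.mapDomainAlgHom A A φ).toRingHom))) :
    Function.Injective φ := by
  rw [HasRingHomProperty.Spec_iff (P := @Flat)] at h1
  have hinj := RingHom.FaithfullyFlat.injective
    (RingHom.FaithfullyFlat.iff_flat_and_comap_surjective.mpr ⟨h1, h2.surj⟩)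
  intro a b hab
  have := hinj (show (MonoidAlgebra.mapDomainAlgHom A A φ).toRingHom (MonoidAlgebra.single a 1) =
    (MonoidAlgebra.mapDomainAlgHom A A φ).toRingHom (MonoidAlgebra.single b 1) by
      simp [MonoidAlgebra.mapDomainAlgHom, hab])
  by_contra hne
  have := congrArg (fun z => z.coeff a) this
  simp [MonoidAlgebra.coeff_single, Finsupp.single_apply, Ne.symm hne] at this

end Groth.Agent.ConstLocus
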