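import Groth.Agent.ConstLocus.Alg
import Groth.Agent.MonoLocus.Groups
import Groth.Agent.SourceDescent.Basic

/-!
Properties of a homomorphism of groups of multiplicative type and finite type hold on open and closed loci.
-/

universe u

open CategoryTheory Limits MonoidalCategory CartesianMonoidalCategory AlgebraicGeometry
open scoped MonObj
open CoactBr Groth.Agent.DiagGrp Groth.Agent.DiagAction Groth.Agent.CentralDescent Groth.Agent.FactLocus

set_option linter.style.haveILetI false
set_option backward.isDefEq.respectTransparency false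

noncomputable section

namespace Groth.Agent.ConstLocus

theorem isPullback_map {T T' : Scheme.{u}} (g : T' ⟶ T) {X Y : Over T} (f : X ⟶ Y) :
    IsPullback (pullback.fst X.hom g) ((Over.pullback g).map f).left f.left (pullback.fst Y.hom g) := by
  refine IsPullback.of_bot ?_ (pullback.lift_fst _ _ _).symm (IsPullback.of_hasPullback Y.hom g)
  rw [Over.w f]
  convert IsPullback.of_hasPullback X.hom g using 1
  exact pullback.lift_snd _ _ _

theorem map_map_iff (P : MorphismProperty Scheme.{u}) [P.RespectsIso] {T T' S : Scheme.{u}} (g : T' ⟶ T) (t : T ⟶ S)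
    {X Y : Over S} (u : X ⟶ Y) :
    P ((Over.pullback (g ≫ t)).map u).left ↔ P ((Over.pullback g).map ((Over.pullback t).map u)).left := by
  refine P.arrow_mk_iso_iff (Arrow.isoMk ((Over.forget _).mapIso ((Over.pullbackComp g t).app X))
    ((Over.forget _).mapIso ((Over.pullbackComp g t).app Y)) ?_)
  have e := congrArg CommaMorphism.left ((Over.pullbackComp g t).hom.naturality u)
  simp only [Over.comp_left] at e
  exact e.symm

variable {A C : Type u} [CommRing A] [CommRing C] [Algebra A C] {M N : Type} [CommGroup M] [CommGroup N]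

theorem isIso_uMap_left : IsIso (uMap A C M).left := by
  have h := (isPullback_incl (k := A) (K := C) (G := M))
  have e : (uMap A C M).left = h.isoPullback.hom :=
    pullback.hom_ext (by rw [h.isoPullback_hom_fst]; exact uMap_left_fst A C M)
      (by rw [h.isoPullback_hom_snd]; exact uMap_left_snd A C M)
  rw [e]
  infer_instance

theorem map_pt_iff (P : MorphismProperty Scheme.{u}) [P.RespectsIso]
    (ψ : MonoidAlgebra A N →ₐ[A] MonoidAlgebra A M) (φ : N →* M)
    (h : ∀ n, MonoidAlgebra.mapRingHom M (algebraMap A C) (ψ (MonoidAlgebra.single n 1)) =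
      MonoidAlgebra.single (φ n) 1) :
    P ((Over.pullback (str A C)).map (pt ψ)).left ↔
      P (Spec.map (CommRingCat.ofHom (MonoidAlgebra.mapDomainAlgHom C C φ).toRingHom)) := by
  haveI := isIso_uMap_left (A := A) (C := C) (M := M)
  haveI := isIso_uMap_left (A := A) (C := C) (M := N)
  let Φ : MonoidAlgebra C N →ₐ[C] MonoidAlgebra C M := MonoidAlgebra.mapDomainAlgHom C C φ
  have hincl : ∀ z, incl A C M z = MonoidAlgebra.mapRingHom M (algebraMap A C) z := by
    intro z
    induction z using MonoidAlgebra.induction_linear with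
    | zero => simp
    | add a b ha hb => rw [map_add, map_add, ha, hb]
    | single m r =>
      rw [show MonoidAlgebra.single m r = r • MonoidAlgebra.single m (1 : A) by simp, map_smul, incl_single]
      simp [Algebra.smul_def]
  have he : (Φ.restrictScalars A).comp (incl A C N) = (incl A C M).comp ψ := algHom_ext_single fun n => by
    show Φ (incl A C N (MonoidAlgebra.single n 1)) = incl A C M (ψ (MonoidAlgebra.single n 1))
    rw [incl_single, hincl, h]
    simp [Φ, MonoidAlgebra.mapDomainAlgHom]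
  have hc : pt Φ ≫ uMap A C N = uMap A C M ≫ (Over.pullback (str A C)).map (pt ψ) := by
    apply down_injective
    rw [DiagGrp.down_comp, down_comp_map, uMap, uMap, down_up, down_up, ← pt_comp, ← pt_comp, he]
  have hc' := congrArg CommaMorphism.left hc
  simp only [Over.comp_left] at hc'
  rw [pt_left] at hc'
  exact (P.arrow_mk_iso_iff (Arrow.isoMk (asIso (uMap A C M).left) (asIso (uMap A C N).left) hc'.symm)).symm

variable {S : Scheme.{u}} {G H : Over S} [GrpObj G] [GrpObj H]

theorem exists_local (u : G ⟶ H) [IsMonHom u] {v : Spec (CommRingCat.of A) ⟶ S} [Group.FG N]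
    (eG : Nonempty (Grp.mk (Red.bc v G) ≅ Grp.mk (sp A (MonoidAlgebra A M))))
    (eH : Nonempty (Grp.mk (Red.bc v H) ≅ Grp.mk (sp A (MonoidAlgebra A N)))) (p : PrimeSpectrum A) :
    ∃ (a : A) (φ : N →* M), a ∉ p.asIdeal ∧
      ∀ (P : MorphismProperty Scheme.{u}) [P.RespectsIso] (C : Type u) [CommRing C] [Algebra A C],
        IsUnit (algebraMap A C a) →
          (P ((Over.pullback (str A C ≫ v)).map u).left ↔
            P (Spec.map (CommRingCat.ofHom (MonoidAlgebra.mapDomainAlgHom C C φ).toRingHom))) := by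
  obtain ⟨EG⟩ := eG
  obtain ⟨EH⟩ := eH
  let e : sp A (MonoidAlgebra A M) ⟶ Red.bc v G := EG.inv.hom.hom
  haveI : IsMonHom e := EG.inv.hom.isMonHom_hom
  haveI : IsIso e := ((Grp.forget _).mapIso EG).isIso_inv
  let e' : Red.bc v H ⟶ sp A (MonoidAlgebra A N) := EH.hom.hom.hom
  haveI : IsMonHom e' := EH.hom.hom.isMonHom_hom
  haveI : IsIso e' := ((Grp.forget _).mapIso EH).isIso_hom
  let w := e ≫ (Over.pullback v).map u ≫ e'
  haveI : IsMonHom w := inferInstance
  obtain ⟨ψ, hψ⟩ := pt_surjective w
  have hgl : ∀ n, IsGL (ψ (MonoidAlgebra.single n 1)) := by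
    intro n
    have h1 : (conv (il A M) (ir A M)).comp ψ = conv ((il A M).comp ψ) ((ir A M).comp ψ) := by
      apply pt_injective
      rw [pt_comp, pt_conv, pt_conv, pt_comp, pt_comp, hψ, mul_comp']
    have h2 : conv (il A M) (ir A M) = dg A M := algHom_ext_single fun m => by simp [il, ir, dg]
    have h3 : (cu A M).comp ψ = MonoidAlgebra.lift A A N (1 : N →* A) := by
      apply pt_injective
      rw [pt_comp, hψ, MonoLocus.pt_lift_one]
      show pt (MonoidAlgebra.lift A A M (1 : M →* A)) ≫ w = 1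
      rw [MonoLocus.pt_lift_one, one_comp']
    refine ⟨?_, ?_⟩
    · have := DFunLike.congr_fun h1 (MonoidAlgebra.single n 1)
      rw [h2, conv_single] at this
      exact this
    · have := DFunLike.congr_fun h3 (MonoidAlgebra.single n 1)
      simpa using this
  obtain ⟨a, φ, hap, ha⟩ := exists_away_eq ψ hgl p
  refine ⟨a, φ, hap, fun P _ C _ _ hC => ?_⟩
  refine (map_map_iff P (str A C) v u).trans ?_
  rw [← map_pt_iff P ψ φ (ha C (algebraMap A C) hC)]
  have hu : (Over.pullback v).map u = inv e ≫ pt ψ ≫ inv e' := by simp [hψ, w]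
  rw [hu, Functor.map_comp, Functor.map_comp, Over.comp_left, Over.comp_left]
  haveI : IsIso ((Over.pullback (str A C)).map (inv e)).left :=
    inferInstanceAs (IsIso ((Over.forget _).map ((Over.pullback (str A C)).map (inv e))))
  haveI : IsIso ((Over.pullback (str A C)).map (inv e')).left :=
    inferInstanceAs (IsIso ((Over.forget _).map ((Over.pullback (str A C)).map (inv e'))))
  rw [P.cancel_left_of_respectsIso, P.cancel_right_of_respectsIso]

theorem of_opens (P : MorphismProperty Scheme.{u}) [IsZariskiLocalAtTarget P] (u : G ⟶ H) {T : Scheme.{u}} (t : T ⟶ S)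
    (O : T → T.Opens) (hO : ∀ x, x ∈ O x) (h : ∀ x, P ((Over.pullback ((O x).ι ≫ t)).map u).left) :
    P ((Over.pullback t).map u).left := by
  let Y := Red.bc t H
  let f := ((Over.pullback t).map u).left
  let 𝒰 := T.openCoverOfIsOpenCover O (eq_top_iff.mpr fun z _ => TopologicalSpace.Opens.mem_iSup.mpr ⟨z, hO z⟩)
  refine IsZariskiLocalAtTarget.of_openCover (𝒰.pullback₁ Y.hom) fun i => ?_
  have h' := (map_map_iff P (O i).ι t u).mp (h i)
  have hp := (isPullback_map (O i).ι ((Over.pullback t).map u))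
  refine (P.arrow_mk_iso_iff (Arrow.isoMk hp.isoPullback (Iso.refl _) ?_)).mp h'
  exact hp.isoPullback_hom_snd.trans (Category.comp_id _).symm

theorem exists_clopen_locus (P : MorphismProperty Scheme.{u}) [IsZariskiLocalAtTarget P] [P.IsStableUnderBaseChange]
    (hdesc : ∀ {X' X Y' Y : Scheme.{u}} (a : X' ⟶ X) (f' : X' ⟶ Y') (f : X ⟶ Y) (b : Y' ⟶ Y),
      IsPullback a f' f b → Flat b → Surjective b → P f' → P f)
    (Cφ : ∀ {N M : Type} [CommGroup N] [CommGroup M], (N →* M) → Prop)
    (hC1 : ∀ {N M : Type} [CommGroup N] [CommGroup M] (φ : N →* M) (A : Type u) [CommRing A],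
      Cφ φ → P (Spec.map (CommRingCat.ofHom (MonoidAlgebra.mapDomainAlgHom A A φ).toRingHom)))
    (hC2 : ∀ {N M : Type} [CommGroup N] [CommGroup M] (φ : N →* M) (A : Type u) [CommRing A] [Nontrivial A],
      P (Spec.map (CommRingCat.ofHom (MonoidAlgebra.mapDomainAlgHom A A φ).toRingHom)) → Cφ φ)
    (hG : SGA3x.IsMultTypeFT G) (hH : SGA3x.IsMultTypeFT H) (u : G ⟶ H) [IsMonHom u] :
    ∃ U : S.Opens, IsClosed (U : Set S) ∧
      (∀ s : S, s ∈ U ↔ P ((Over.pullback (S.fromSpecResidueField s)).map u).left) ∧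
      P ((Over.pullback U.ι).map u).left := by
  classical
  obtain ⟨S', f, hflat, hsurj, hcov, hloc⟩ := exists_common_cover hG hH
  haveI := hflat
  haveI := hsurj
  have hbcdesc : ∀ {T T' : Scheme.{u}} (q : T' ⟶ T) (t : T ⟶ S), Flat q → Surjective q →
      P ((Over.pullback (q ≫ t)).map u).left → P ((Over.pullback t).map u).left := by
    intro T T' q t hq hq' h
    refine hdesc _ _ _ _ (isPullback_map q ((Over.pullback t).map u)) ?_ ?_ ((map_map_iff P q t u).mp h)
    · exact MorphismProperty.pullback_fst _ _ hq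
    · exact MorphismProperty.pullback_fst _ _ hq'
  have hbc : ∀ {T T' : Scheme.{u}} (q : T' ⟶ T) (t : T ⟶ S),
      P ((Over.pullback t).map u).left → P ((Over.pullback (q ≫ t)).map u).left := fun q t h =>
    (map_map_iff P q t u).mpr (MorphismProperty.of_isPullback (isPullback_map q _) h)
  let T : Set S := {s | P ((Over.pullback (S.fromSpecResidueField s)).map u).left}
  have hfield : ∀ {L : Type u} [Field L] (g : Spec (CommRingCat.of L) ⟶ S) (z : Spec (CommRingCat.of L)),
      P ((Over.pullback g).map u).left ↔ g z ∈ T := by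
    intro L _ g z
    obtain ⟨⟨x, χ⟩, hxφ⟩ : ∃ p, (Scheme.SpecToEquivOfField L S).symm p = g :=
      ⟨Scheme.SpecToEquivOfField L S g, Equiv.symm_apply_apply _ _⟩
    have hg : Spec.map χ ≫ S.fromSpecResidueField x = g := hxφ
    have hx : g z = x := by rw [← hg, Scheme.Hom.comp_apply, Scheme.fromSpecResidueField_apply]
    show _ ↔ P _
    rw [hx, ← hg]
    refine ⟨hbcdesc _ _ ?_ ⟨fun y => ⟨z, Subsingleton.elim _ _⟩⟩, hbc _ _⟩
    rw [HasRingHomProperty.Spec_iff (P := @Flat)]
    letI := χ.hom.toAlgebra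
    letI : Field (S.residueField x) := inferInstance
    exact RingHom.flat_algebraMap_iff.mpr (inferInstanceAs (Module.Flat (S.residueField x) L))
  have hpt : ∀ q : S', ∃ O : S'.Opens, q ∈ O ∧
      ((∀ y ∈ O, f y ∈ T) ∧ P ((Over.pullback (O.ι ≫ f)).map u).left ∨ ∀ y ∈ O, f y ∉ T) := by
    intro q
    obtain ⟨V, hV, M, N, _, _, hqV, -, hN, hchart⟩ := hloc q
    obtain ⟨E₀, E₁⟩ := hchart Γ(S', V)
    have hv : Spec.map (CommRingCat.ofHom (algebraMap Γ(S', V) Γ(S', V))) ≫ hV.fromSpec ≫ f = hV.fromSpec ≫ f := by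
      rw [show CommRingCat.ofHom (algebraMap Γ(S', V) Γ(S', V)) = 𝟙 _ from rfl, Spec.map_id, Category.id_comp]
    obtain ⟨c₀⟩ := bc_congr_grp hv G
    obtain ⟨c₁⟩ := bc_congr_grp hv H
    obtain ⟨P', hP'⟩ := hV.range_fromSpec.ge hqV
    obtain ⟨a, φ, hap, hφ⟩ := exists_local (M := M) (N := N) u
      (E₀.map fun E => c₀.symm ≪≫ E) (E₁.map fun E => c₁.symm ≪≫ E) P'
    let o := Spec.map (CommRingCat.ofHom (algebraMap Γ(S', V) (Localization.Away a))) ≫ hV.fromSpec
    haveI : IsOpenImmersion (Spec.map (CommRingCat.ofHom (algebraMap Γ(S', V) (Localization.Away a)))) :=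
      IsOpenImmersion.of_isLocalization a
    haveI : IsOpenImmersion o := inferInstance
    refine ⟨o.opensRange, ?_, ?_⟩
    · obtain ⟨z, hz⟩ := (PrimeSpectrum.localization_away_comap_range (Localization.Away a) a).ge
        (show P' ∈ (PrimeSpectrum.basicOpen a : Set (PrimeSpectrum Γ(S', V))) from hap)
      refine ⟨z, ?_⟩
      show hV.fromSpec (Spec.map (CommRingCat.ofHom (algebraMap Γ(S', V) (Localization.Away a))) z) = q
      exact (congrArg hV.fromSpec hz).trans hP'
    have hu : IsUnit (algebraMap Γ(S', V) (Localization.Away a) a) := IsLocalization.Away.algebraMap_isUnit a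
    have hy : ∀ y ∈ o.opensRange, (f y ∈ T ↔ Cφ φ) := by
      rintro _ ⟨z, rfl⟩
      let z' : PrimeSpectrum (Localization.Away a) := z
      let L := z'.asIdeal.ResidueField
      letI : Algebra Γ(S', V) L :=
        ((algebraMap (Localization.Away a) L).comp (algebraMap Γ(S', V) (Localization.Away a))).toAlgebra
      have hL := hφ P L (hu.map (algebraMap (Localization.Away a) L))
      have hpt : (str Γ(S', V) L ≫ hV.fromSpec ≫ f) (default : PrimeSpectrum L) = f (o z) := by
        show (Spec.map (CommRingCat.ofHom ((algebraMap (Localization.Away a) L).comp (algebraMap Γ(S', V) (Localization.Away a)))) ≫ hV.fromSpec ≫ f) _ = _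
        rw [CommRingCat.ofHom_comp, Spec.map_comp, Category.assoc]
        simp only [o, Scheme.Hom.comp_apply]
        congr 3
        refine PrimeSpectrum.ext ?_
        show (default : PrimeSpectrum L).asIdeal.comap (algebraMap _ _) = z'.asIdeal
        rw [show (default : PrimeSpectrum L).asIdeal = ⊥ from
          ((default : PrimeSpectrum L).asIdeal.eq_bot_or_top).resolve_right
            (default : PrimeSpectrum L).isPrime.ne_top]
        exact Ideal.ker_algebraMap_residueField z'.asIdeal
      rw [← hpt, ← hfield, hL]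
      exact ⟨hC2 φ L, hC1 φ L⟩
    by_cases hc : Cφ φ
    · refine Or.inl ⟨fun y hy' => (hy y hy').mpr hc, ?_⟩
      have h0 := (hφ P (Localization.Away a) hu).mpr (hC1 φ _ hc)
      have h1 : o.opensRange.ι ≫ f = o.isoOpensRange.inv ≫ str Γ(S', V) (Localization.Away a) ≫ hV.fromSpec ≫ f := by
        rw [← Scheme.Hom.isoOpensRange_inv_comp o, Category.assoc]
        rfl
      rw [h1]
      exact hbc _ _ h0
    · exact Or.inr fun y hy' h => hc ((hy y hy').mp h)
  choose O hqO hO using hpt
  have hopen : IsOpen (f ⁻¹' T) ∧ IsOpen (f ⁻¹' Tᶜ) := by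
    constructor <;> refine isOpen_iff_forall_mem_open.mpr fun q hq => ⟨O q, fun y hy => ?_, (O q).isOpen, hqO q⟩
    · rcases hO q with ⟨h, -⟩ | h
      exacts [h y hy, absurd hq (h q (hqO q))]
    · rcases hO q with ⟨h, -⟩ | h
      exacts [absurd (h q (hqO q)) hq, h y hy]
  let U : S.Opens := ⟨T, isOpen_of_preimage f hcov hopen.1⟩
  refine ⟨U, isOpen_compl_iff.mp (isOpen_of_preimage f hcov hopen.2), fun s => Iff.rfl, ?_⟩
  haveI : Flat (f ∣_ U) := IsZariskiLocalAtTarget.restrict (P := @Flat) inferInstance U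
  haveI : Surjective (f ∣_ U) := IsZariskiLocalAtTarget.restrict (P := @Surjective) inferInstance U
  refine hbcdesc (f ∣_ U) U.ι inferInstance inferInstance ?_
  rw [morphismRestrict_ι]
  refine of_opens P u _ (fun x => (f ⁻¹ᵁ U).ι ⁻¹ᵁ O ((f ⁻¹ᵁ U).ι x)) (fun x => hqO _) fun x => ?_
  let q := (f ⁻¹ᵁ U).ι x
  rcases hO q with ⟨-, h⟩ | h
  · let W := (f ⁻¹ᵁ U).ι ⁻¹ᵁ O q
    let k : (W : Scheme.{u}) ⟶ O q := IsOpenImmersion.lift (O q).ι (W.ι ≫ (f ⁻¹ᵁ U).ι) (by
      rintro _ ⟨z, rfl⟩; exact (Scheme.Opens.range_ι (O q)).ge z.2)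
    have := hbc k _ h
    rw [IsOpenImmersion.lift_fac_assoc] at this
    exact this
  · exact absurd x.2 (h q (hqO q))

end Groth.Agent.ConstLocus
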